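import Groth.Agent.AlgSp.K612.ProjLoc
import Groth.Agent.AlgSp.K612.Small
import Groth.Agent.AlgSp.K612.ProjChart
import Groth.Agent.Etbase.ZarEt
import Groth.Agent.Ega1.QCohLoc
import Mathlib.Algebra.Group.Shrink
/-!
# Local projectivity, inverse images along representable morphisms, and Zariski companions

Local projectivity (namespace `K44.ProjPull`).
* `projective_of_isBC`: projectivity is local for the etale topology, for modules in any universe above that of the ring.
* `LocProj M`: a module on the small etale site of a space is locally projective if its sections over every affine object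
  of the small etale site are projective.
* `locProj_pull`: inverse images along representable morphisms of locally projective quasi-coherent modules are locally
  projective.
* `projective_res_iff`, `locProj_of_charts`: the same in terms of the restrictions to the Zariski sites of the etale charts.

Companions (namespace `K44.Companion`).
* `companion`: a module on the small etale site of a scheme whose sections over opens are `u`-small has a Zariski
  companion (`shrinkMod`).
* `projective_iff`: projectivity of the sections of a module and of its companion.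
* `isQCoh_of_companion`: the companion of a quasi-coherent module is quasi-coherent.
* `small_sec`: sections over all objects are small if sections over affine objects are.
* `locProj_of_companions`: if the sections are small, local projectivity can be tested on companions.
-/

set_option autoImplicit false
universe v u

set_option backward.isDefEq.respectTransparency false

open CategoryTheory CategoryTheory.Limits AlgebraicGeometry Opposite TensorProduct

namespace K44.ProjPull

open Groth.Agent.Etbase.FFExact

section algebra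

/-- Base change along an isomorphism of rings. -/
theorem isBC_of_ringEquiv {A B : Type*} [CommRing A] [CommRing B] {φ : A →+* B}
    (hφ : Function.Bijective φ) {M M' : Type*}
    [AddCommGroup M] [AddCommGroup M'] [Module A M] [Module B M'] (f : M ≃+ M')
    (hf : ∀ (a : A) (m : M), f (a • m) = φ a • f m) : IsBC φ (f : M →+ M') := by
  refine ⟨hf, ?_⟩
  let _ := φ.toAlgebra
  let _ : Module A M' := Module.compHom M' φ
  have : IsScalarTower A B M' := ⟨fun a b m => by
    change (φ a * b) • m = φ a • b • m
    rw [mul_smul]⟩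
  refine IsBaseChange.of_lift_unique _ fun Q _ _ _ _ g => ?_
  refine ⟨{ toFun := fun m => g (f.symm m), map_add' := fun x y => by simp, map_smul' := fun b m => ?_ },
    ?_, fun g' hg' => ?_⟩
  · obtain ⟨a, rfl⟩ := hφ.2 b
    obtain ⟨m, rfl⟩ := f.surjective m
    rw [← hf, AddEquiv.symm_apply_apply, AddEquiv.symm_apply_apply, map_smul, RingHom.id_apply,
      ← algebraMap_smul B a (g m)]
    rfl
  · ext m
    exact congrArg g (f.symm_apply_apply m)
  · ext m
    obtain ⟨m, rfl⟩ := f.surjective m
    change g' (f m) = g (f.symm (f m))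
    rw [AddEquiv.symm_apply_apply, ← hg']
    rfl

/-- Composition of etale ring maps, in any universes. -/
theorem etale_comp {A B C : Type*} [CommRing A] [CommRing B] [CommRing C] {φ : A →+* B}
    {ψ : B →+* C} (h : φ.Etale) (h' : ψ.Etale) : (ψ.comp φ).Etale := by
  algebraize [φ, ψ, ψ.comp φ]
  exact Algebra.Etale.comp A B C

/-- Projectivity is local for the etale topology, for modules one universe up. -/
theorem projective_of_isBC {A : Type u} [CommRing A] {N : Type (max u v)} [AddCommGroup N]
    [Module A N]
    (h : ∀ (p : Ideal A) [p.IsPrime], ∃ (A₁ : Type u) (_ : CommRing A₁) (φ : A →+* A₁)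
      (p₁ : Ideal A₁) (_ : p₁.IsPrime) (N₁ : Type (max u v)) (_ : AddCommGroup N₁)
      (_ : Module A₁ N₁) (ψ : N →+ N₁), φ.Etale ∧ p₁.comap φ = p ∧ IsBC φ ψ ∧
        Module.Projective A₁ N₁) : Module.Projective A N := by
  have key : Module.Projective (ULift.{v} A) N := by
    refine Groth.Agent.Flat2A.EtaleProjGlue.projective_of_etale_local (ULift.{v} A) N
      fun p hp => ?_
    let d : ULift.{v} A ≃+* A := ULift.ringEquiv
    obtain ⟨A₁, _, φ, p₁, hp₁, N₁, _, _, ψ, h1, h2, h3, h4⟩ :=
      h (p.comap (d.symm : A →+* ULift.{v} A))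
    let d₁ : ULift.{v} A₁ ≃+* A₁ := ULift.ringEquiv
    let φ' : ULift.{v} A →+* ULift.{v} A₁ :=
      ((d₁.symm : A₁ →+* ULift.{v} A₁).comp φ).comp (d : ULift.{v} A →+* A)
    have he : φ'.Etale := etale_comp (RingHom.Etale.of_bijective d.bijective)
      (etale_comp h1 (RingHom.Etale.of_bijective d₁.symm.bijective))
    have hbc : IsBC φ' (((AddMonoidHom.id N₁).comp ψ).comp (AddMonoidHom.id N)) :=
      K644.Alg.IsBC.comp (φ := (d : ULift.{v} A →+* A))
        (φ' := (d₁.symm : A₁ →+* ULift.{v} A₁).comp φ) (M' := N)
        (isBC_of_ringEquiv d.bijective (AddEquiv.refl N) (fun _ _ => rfl))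
        (K644.Alg.IsBC.comp h3
          (isBC_of_ringEquiv (φ := (d₁.symm : A₁ →+* ULift.{v} A₁)) d₁.symm.bijective
            (AddEquiv.refl N₁) (fun _ _ => rfl)))
    have hp' : Module.Projective (ULift.{v} A₁) N₁ := by
      have := RingHomInvPair.of_ringEquiv d₁.symm
      have := RingHomInvPair.of_ringEquiv_symm d₁.symm
      let τ : N₁ ≃ₛₗ[(d₁.symm : A₁ →+* ULift.{v} A₁)] N₁ :=
        { AddEquiv.refl N₁ with
          map_smul' := fun a m => rfl }
      exact Module.Projective.of_equiv τ
    obtain ⟨h5, h6⟩ := hbc
    let _ := φ'.toAlgebra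
    let _ : Module (ULift.{v} A) N₁ := Module.compHom N₁ φ'
    have : IsScalarTower (ULift.{v} A) (ULift.{v} A₁) N₁ := ⟨fun a b m => by
      change (φ' a * b) • m = φ' a • b • m
      rw [mul_smul]⟩
    refine ⟨ULift.{v} A₁, inferInstance, inferInstance, p₁.comap (d₁ : ULift.{v} A₁ →+* A₁),
      inferInstance, he, ⟨?_⟩, Module.Projective.of_equiv' h6.equiv.symm⟩
    ext a
    have h7 : (d a ∈ p₁.comap φ) ↔ a ∈ p := by
      rw [h2]
      exact Iff.rfl
    exact h7.symm
  have := RingHomInvPair.of_ringEquiv (ULift.ringEquiv : ULift.{v} A ≃+* A)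
  have := RingHomInvPair.of_ringEquiv_symm (ULift.ringEquiv : ULift.{v} A ≃+* A)
  let τ : N ≃ₛₗ[((ULift.ringEquiv : ULift.{v} A ≃+* A) : ULift.{v} A →+* A)] N :=
    { AddEquiv.refl N with
      map_smul' := fun a m => rfl }
  exact Module.Projective.of_equiv τ

end algebra

open AlgSp K644.Chart K612.ModPush K612.PullTerm K612.PullSec

variable {S : Scheme.{u}} {X Y : Sp S}

/-- Projectivity of the sections over an affine object is local on the small etale site. -/
theorem projective_of_local (M : ModEt X) [M.IsQuasicoherent] {E : EtOver X}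
    (hE : IsAffine E.obj.left.left)
    (h : ∀ x : ↥E.obj.left.left, ∃ (E₁ : EtOver X) (g : E₁ ⟶ E) (y : E₁.obj.left.left),
      IsAffine E₁.obj.left.left ∧ g.hom.left.left y = x ∧
        Module.Projective Γ(E₁.obj.left.left, ⊤) (M.val.presheaf.obj (op E₁))) :
    Module.Projective Γ(E.obj.left.left, ⊤) (M.val.presheaf.obj (op E)) := by
  refine projective_of_isBC.{u + 1, u} fun p hp => ?_
  obtain ⟨x, hx⟩ := K612.ProjLoc.exists_point (Z := E.obj.left.left) p
  obtain ⟨E₁, g, y, hE₁, hy, hP⟩ := h x
  refine ⟨Γ(E₁.obj.left.left, ⊤), inferInstance, g.hom.left.left.appTop.hom,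
    (E₁.obj.left.left.toSpecΓ y).asIdeal, inferInstance, M.val.presheaf.obj (op E₁),
    inferInstance, inferInstance, (M.val.presheaf.map g.op).hom, ?_, ?_,
    K644.Chart.isBC_of_isQuasicoherent M g hE hE₁, hP⟩
  · have := EtOver.etale_left g
    exact (HasRingHomProperty.iff_of_isAffine (P := @Etale)).1 this
  · rw [K612.ProjLoc.comap_primeOf, hy, hx]

/-- A module on the small etale site has projective sections over all affine objects. -/
def LocProj (M : ModEt X) : Prop :=
  ∀ E : EtOver X, IsAffine E.obj.left.left →
    Module.Projective ((OEtRing X).obj.obj (op E)) (M.val.obj (op E))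

/-- The same in terms of the action of the ring of functions itself. -/
theorem projective_iff (M : ModEt X) (E : EtOver X) :
    Module.Projective ((OEtRing X).obj.obj (op E)) (M.val.obj (op E)) ↔
      Module.Projective Γ(E.obj.left.left, ⊤) (M.val.presheaf.obj (op E)) := by
  let d : ((OEtRing X).obj.obj (op E)) ≃+* Γ(E.obj.left.left, ⊤) := ULift.ringEquiv
  have := RingHomInvPair.of_ringEquiv d
  have := RingHomInvPair.of_ringEquiv_symm d
  let τ : M.val.obj (op E) ≃ₛₗ[(d : ((OEtRing X).obj.obj (op E)) →+* Γ(E.obj.left.left, ⊤))]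
      M.val.presheaf.obj (op E) :=
    { AddEquiv.refl (M.val.presheaf.obj (op E)) with
      map_smul' := fun a m => rfl }
  exact ⟨fun h => Module.Projective.of_equiv τ, fun h => Module.Projective.of_equiv τ.symm⟩

variable {f : X ⟶ Y} (hf : Representable f)

/-- The inverse image of a locally projective quasi-coherent module is locally projective. -/
theorem locProj_pull [(SheafOfModules.pushforward.{u + 1} (bcRingHom hf)).IsRightAdjoint]
    (hY : K612.PullQc.HasAtlas Y) (G : ModEt Y) [G.IsQuasicoherent] (hG : LocProj G) :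
    LocProj ((pullModEt hf).obj G) := by
  intro E hE
  rw [projective_iff]
  have := K612.PullQc.isQuasicoherent_pullModEt hf hY G
  refine projective_of_local _ hE fun x => ?_
  obtain ⟨E₁, g, y, ⟨hE₁, E₀, hE₀, ⟨k⟩⟩, hy⟩ := K612.Small.isBasis_isSmall hf hY E x
  refine ⟨E₁, g, y, hE₁, hy, ?_⟩
  have h1 : Module.Projective Γ((EtOver.toScheme Y).obj E₀, ⊤) (K644.Exact.sec G E₀) :=
    (projective_iff G E₀).1 (hG E₀ hE₀)
  exact K612.ProjLoc.IsBC.projective (isBC_un_modEt hf G k hE₀ hE₁)

open K612.ProjChart

/-- The sections of the Zariski restriction of a module to an etale chart, over an open of the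
chart, are the sections of the module over that open. -/
theorem projective_res_iff {V : Over S} {q : (yon S).obj V ⟶ X} (hrepq : Representable q)
    (he : IsEtaleMor q) [(SheafOfModules.pushforward.{u + 1} (bcRingHom hrepq)).IsRightAdjoint]
    (F : ModEt X) (W : V.left.Opens) :
    Module.Projective ((OEtSchRing V.left).obj.obj (op (etaleOfOpen V.left W)))
        (((resSchModEt V).obj ((pullModEt hrepq).obj F)).val.obj (op (etaleOfOpen V.left W))) ↔
      Module.Projective ((OEtRing X).obj.obj (op (openObj he W)))
        (F.val.obj (op (openObj he W))) := by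
  let E := (EtOver.ofScheme V).obj (etaleOfOpen V.left W)
  let e₁ := secEquiv ((K612.ResEt.pullIsoRes hrepq he).app F) E
  let R' := (OEtRing ((yon S).obj V)).obj.obj (op E)
  let A' := ((pullModEt hrepq).obj F).val.obj (op E)
  let B' := ((K612.ResEt.resModEt he).obj F).val.obj (op E)
  exact ⟨fun (h : Module.Projective R' A') =>
      (Module.Projective.of_equiv' e₁ : Module.Projective R' B'),
    fun (h : Module.Projective R' B') =>
      (Module.Projective.of_equiv' e₁.symm : Module.Projective R' A')⟩

/-- Local projectivity in terms of the Zariski restrictions to the etale charts. -/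
theorem locProj_of_charts (F : ModEt X) [F.IsQuasicoherent]
    (h : ∀ {V : Over S} (q : (yon S).obj V ⟶ X) (hrepq : Representable q)
      [(SheafOfModules.pushforward.{u + 1} (bcRingHom hrepq)).IsRightAdjoint]
      (W : V.left.Opens), RepWith @Etale q → IsAffineOpen W →
        Module.Projective ((OEtSchRing V.left).obj.obj (op (etaleOfOpen V.left W)))
          (((resSchModEt V).obj ((pullModEt hrepq).obj F)).val.obj
            (op (etaleOfOpen V.left W)))) : LocProj F := by
  intro E hE
  have he := isEtaleMor_of_repWith E.obj.hom E.property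
  have h1 := (projective_res_iff E.property.1 he F ⊤).1
    (h E.obj.hom E.property.1 ⊤ E.property (isAffineOpen_top _))
  rw [projective_iff] at h1 ⊢
  obtain ⟨k, hk, hk'⟩ := openObj_hom he (⊤ : E.obj.left.left.Opens)
  have h2 : IsIso ((Over.forget S).map k) := by
    change IsIso k.left
    rw [hk]
    exact (Scheme.topIso E.obj.left.left).isIso_hom
  have h3 : IsIso k := isIso_of_reflects_iso k (Over.forget S)
  let g : E ⟶ openObj he (⊤ : E.obj.left.left.Opens) := EtOver.homMk (inv k) (by
    rw [← hk', ← Category.assoc, ← Functor.map_comp, IsIso.inv_hom_id]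
    exact (congrArg (fun t => t ≫ E.obj.hom) ((yon S).map_id E.obj.left)).trans
      (Category.id_comp _))
  exact K612.ProjLoc.projective_of_hom F g (isAffineOpen_top E.obj.left.left) hE h1

end K44.ProjPull

namespace K44.Companion

open AlgSp

section shrink

variable {T : Scheme.{u}}

/-- the ring of functions on an open, on the small etale site and on the Zariski site. -/
noncomputable def ringEquiv (T : Scheme.{u}) (W : T.Opens) :
    (OEtSchRing T).obj.obj (op (etaleOfOpen T W)) ≃+* T.ringCatSheaf.obj.obj (op W) :=
  (ULift.ringEquiv : ULift.{u + 1} Γ((W : Scheme.{u}), ⊤) ≃+* Γ((W : Scheme.{u}), ⊤)).trans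
    W.topIso.commRingCatIsoToRingEquiv

theorem ringEquiv_symm_apply (W : T.Opens) (a : Γ(T, W)) :
    (ringEquiv T W).symm a = ULift.up (W.topIso.inv a) := rfl

theorem homOfLE_topIso_inv {W W' : T.Opens} (h : W' ≤ W) :
    W.topIso.inv ≫ (T.homOfLE h).appTop = T.presheaf.map (homOfLE h).op ≫ W'.topIso.inv := by
  rw [Scheme.homOfLE_appTop]
  change T.presheaf.map _ ≫ T.presheaf.map _ = T.presheaf.map _ ≫ T.presheaf.map _
  rw [← Functor.map_comp, ← Functor.map_comp]
  rfl

theorem ringEquiv_symm_map {W W' : T.Opens} (h : W' ≤ W) (a : Γ(T, W)) :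
    (ringEquiv T W').symm (T.presheaf.map (homOfLE h).op a) =
      (OEtSchRing T).obj.map (etaleOfLE h).op ((ringEquiv T W).symm a) := by
  rw [ringEquiv_symm_apply, ringEquiv_symm_apply]
  refine congrArg ULift.up ?_
  exact (ConcreteCategory.congr_hom (homOfLE_topIso_inv h) a).symm

variable (M : ModEtSch T)

/-- the sections over an open. -/
abbrev S (W : T.Opens) : Type (u + 1) := M.val.obj (op (etaleOfOpen T W))

/-- the restriction. -/
noncomputable def rs {W W' : T.Opens} (h : W' ≤ W) : S M W →+ S M W' :=
  (M.val.presheaf.map (etaleOfLE h).op).hom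

theorem rs_smul {W W' : T.Opens} (h : W' ≤ W) (a : (OEtSchRing T).obj.obj (op (etaleOfOpen T W)))
    (m : S M W) : rs M h (a • m) =
      ((OEtSchRing T).obj.map (etaleOfLE h).op a : (OEtSchRing T).obj.obj (op (etaleOfOpen T W'))) •
        rs M h m :=
  M.val.map_smul (etaleOfLE h).op a m

theorem rs_id (W : T.Opens) (m : S M W) : rs M le_rfl m = m := by
  have h : etaleOfLE (le_refl W) = 𝟙 _ := Subsingleton.elim (α := (etaleOfOpen T W ⟶
    (EtZar.zarToEt T).obj W)) _ _
  change M.val.presheaf.map (etaleOfLE (le_refl W)).op m = m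
  rw [h, op_id, M.val.presheaf.map_id]
  rfl

theorem rs_comp {W W' W'' : T.Opens} (h : W' ≤ W) (h' : W'' ≤ W') (m : S M W) :
    rs M h' (rs M h m) = rs M (h'.trans h) m := by
  have h1 : etaleOfLE (h'.trans h) = etaleOfLE h' ≫ etaleOfLE h :=
    Subsingleton.elim (α := (etaleOfOpen T W'' ⟶ (EtZar.zarToEt T).obj W)) _ _
  change M.val.presheaf.map _ (M.val.presheaf.map _ m) = M.val.presheaf.map (etaleOfLE (h'.trans h)).op m
  rw [h1, op_comp, M.val.presheaf.map_comp]
  rfl

variable [∀ W : T.Opens, Small.{u} (S M W)]

/-- the identification of the small group with the sections. -/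
noncomputable def eq (W : T.Opens) : Shrink.{u} (S M W) ≃+ S M W := Shrink.addEquiv

/-- the underlying presheaf of abelian groups. -/
noncomputable def presheaf : (TopologicalSpace.Opens T)ᵒᵖ ⥤ AddCommGrpCat.{u} where
  obj W := AddCommGrpCat.of (Shrink.{u} (S M W.unop))
  map {W W'} i := AddCommGrpCat.ofHom
    (((eq M W'.unop).symm : S M W'.unop →+ _).comp ((rs M i.unop.le).comp (eq M W.unop : _ →+ S M W.unop)))
  map_id W := by
    refine AddCommGrpCat.hom_ext (AddMonoidHom.ext fun x => ?_)
    change (eq M W.unop).symm (rs M le_rfl (eq M W.unop x)) = x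
    rw [rs_id, AddEquiv.symm_apply_apply]
  map_comp {W W' W''} i j := by
    refine AddCommGrpCat.hom_ext (AddMonoidHom.ext fun x => ?_)
    change (eq M W''.unop).symm (rs M _ (eq M W.unop x)) =
      (eq M W''.unop).symm (rs M _ (eq M W'.unop ((eq M W'.unop).symm (rs M _ (eq M W.unop x)))))
    rw [AddEquiv.apply_symm_apply, rs_comp]

theorem eq_presheaf_map {W W' : T.Opens} (h : W' ≤ W) (x : (presheaf M).obj (op W)) :
    eq M W' ((presheaf M).map (homOfLE h).op x) = rs M h (eq M W x) := by
  change eq M W' ((eq M W').symm (rs M _ (eq M W x))) = _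
  rw [AddEquiv.apply_symm_apply]

/-- the action of the functions. -/
noncomputable instance moduleObj (W : (TopologicalSpace.Opens T)ᵒᵖ) :
    Module (T.ringCatSheaf.obj.obj W) ((presheaf M).obj W) where
  smul a x := (eq M W.unop).symm ((ringEquiv T W.unop).symm a • eq M W.unop x)
  one_smul x := show (eq M W.unop).symm ((ringEquiv T W.unop).symm 1 • eq M W.unop x) = x by
    rw [map_one, one_smul, AddEquiv.symm_apply_apply]
  mul_smul a b x := by
    change (eq M W.unop).symm ((ringEquiv T W.unop).symm (a * b) • eq M W.unop x) =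
      (eq M W.unop).symm ((ringEquiv T W.unop).symm a • eq M W.unop
        ((eq M W.unop).symm ((ringEquiv T W.unop).symm b • eq M W.unop x)))
    rw [AddEquiv.apply_symm_apply, map_mul, mul_smul]
  smul_zero a := show (eq M W.unop).symm ((ringEquiv T W.unop).symm a • eq M W.unop 0) = 0 by
    rw [map_zero, smul_zero, map_zero]
  smul_add a x y := by
    change (eq M W.unop).symm ((ringEquiv T W.unop).symm a • eq M W.unop (x + y)) =
      (eq M W.unop).symm ((ringEquiv T W.unop).symm a • eq M W.unop x) +
        (eq M W.unop).symm ((ringEquiv T W.unop).symm a • eq M W.unop y)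
    rw [map_add, smul_add, map_add]
  add_smul a b x := by
    change (eq M W.unop).symm ((ringEquiv T W.unop).symm (a + b) • eq M W.unop x) =
      (eq M W.unop).symm ((ringEquiv T W.unop).symm a • eq M W.unop x) +
        (eq M W.unop).symm ((ringEquiv T W.unop).symm b • eq M W.unop x)
    rw [map_add, add_smul, map_add]
  zero_smul x := show (eq M W.unop).symm ((ringEquiv T W.unop).symm 0 • eq M W.unop x) = 0 by
    rw [map_zero, zero_smul, map_zero]

theorem eq_smul (W : T.Opens) (a : T.ringCatSheaf.obj.obj (op W)) (x : (presheaf M).obj (op W)) :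
    eq M W (a • x) = (ringEquiv T W).symm a • eq M W x := by
  change eq M W ((eq M W).symm ((ringEquiv T W).symm a • eq M W x)) = _
  rw [AddEquiv.apply_symm_apply]

/-- the presheaf of modules. -/
noncomputable def val : PresheafOfModules.{u} T.ringCatSheaf.obj :=
  PresheafOfModules.ofPresheaf (presheaf M) (fun W W' i a x => by
    refine (eq M W'.unop).injective ?_
    have h1 : eq M W'.unop ((presheaf M).map i (a • x)) = rs M i.unop.le (eq M W.unop (a • x)) :=
      eq_presheaf_map M i.unop.le _
    have h2 : eq M W'.unop ((presheaf M).map i x) = rs M i.unop.le (eq M W.unop x) :=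
      eq_presheaf_map M i.unop.le _
    refine h1.trans ?_
    refine Eq.trans ?_ (eq_smul M W'.unop _ _).symm
    rw [h2, eq_smul, rs_smul]
    congr 1
    exact (ringEquiv_symm_map i.unop.le a).symm)

theorem isSheaf_presheaf : Presheaf.IsSheaf (Opens.grothendieckTopology T) (presheaf M) := by
  have h1 : Presheaf.IsSheaf (Opens.grothendieckTopology T)
      ((EtZar.zarToEt T).op ⋙ M.val.presheaf) :=
    Functor.op_comp_isSheaf_of_isSheaf _ (Opens.grothendieckTopology T) T.smallEtaleTopology _ M.isSheaf
  have h2 : Presheaf.IsSheaf (Opens.grothendieckTopology T)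
      (((EtZar.zarToEt T).op ⋙ M.val.presheaf) ⋙ forget AddCommGrpCat.{u + 1}) :=
    Presheaf.isSheaf_comp_of_isSheaf _ _ _ h1
  rw [isSheaf_iff_isSheaf_of_type] at h2
  rw [Presheaf.isSheaf_iff_isSheaf_forget (Opens.grothendieckTopology T) (presheaf M)
    (forget AddCommGrpCat.{u}), isSheaf_iff_isSheaf_of_type]
  refine Presieve.isSheaf_of_nat_equiv (fun W => (eq M W).symm.toEquiv) (fun W W' i x => ?_) h2
  refine (eq M W).injective ?_
  have h3 : eq M W ((presheaf M).map i.op ((eq M W').symm x)) = rs M i.le (eq M W' ((eq M W').symm x)) :=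
    eq_presheaf_map M i.le _
  refine Eq.trans ?_ h3.symm
  rw [AddEquiv.apply_symm_apply]
  exact (eq M W).apply_symm_apply _

/-- the module on the Zariski site. -/
noncomputable def shrinkMod : T.Modules :=
  { val := val M
    isSheaf := isSheaf_presheaf M : SheafOfModules.{u} T.ringCatSheaf }

/-- the companion. -/
noncomputable def companion : ZarCompanion T (shrinkMod M) M where
  iso W := (eq M W).symm.trans AddEquiv.ulift.symm
  map_smul W a m := by
    refine congrArg ULift.up ?_
    refine (eq M W).injective ?_
    let a' : T.ringCatSheaf.obj.obj (op W) := a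
    let y : (presheaf M).obj (op W) := (eq M W).symm m
    have h1 : eq M W (a' • y) = (ringEquiv T W).symm a' • eq M W ((eq M W).symm m) :=
      eq_smul M W a y
    refine Eq.trans ?_ h1.symm
    rw [AddEquiv.apply_symm_apply]
    exact (eq M W).apply_symm_apply _
  map_res {W W'} h m := by
    refine congrArg ULift.up ?_
    refine (eq M W').injective ?_
    have h1 : eq M W' ((presheaf M).map (homOfLE h).op ((eq M W).symm m)) =
        rs M h (eq M W ((eq M W).symm m)) := eq_presheaf_map M h _
    refine Eq.trans ?_ h1.symm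
    rw [AddEquiv.apply_symm_apply]
    exact (eq M W').apply_symm_apply _

end shrink

open AlgSp K644.Chart K612.ProjChart Groth.Agent.Etbase.FFExact

section iso

variable {T : Scheme.{u}} {F : T.Modules} {M : ModEtSch T}

/-- the identification of the sections, without the universe lift. -/
noncomputable def secAddEquiv (c : ZarCompanion T F M) (W : T.Opens) :
    (M.val.obj (op (etaleOfOpen T W)) : Type (u + 1)) ≃+ (F.val.obj (op W) : Type u) :=
  (c.iso W).trans AddEquiv.ulift

theorem secAddEquiv_smul (c : ZarCompanion T F M) (W : T.Opens)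
    (a : (OEtSchRing T).obj.obj (op (etaleOfOpen T W)))
    (m : M.val.obj (op (etaleOfOpen T W))) :
    secAddEquiv c W (a • m) = ringEquiv T W a • secAddEquiv c W m := by
  obtain ⟨b, rfl⟩ := (ringEquiv T W).symm.surjective a
  rw [RingEquiv.apply_symm_apply]
  exact congrArg ULift.down (c.map_smul W b m)

theorem secAddEquiv_res (c : ZarCompanion T F M) {W W' : T.Opens} (h : W' ≤ W)
    (m : M.val.obj (op (etaleOfOpen T W))) :
    secAddEquiv c W' (M.val.map (etaleOfLE h).op m) =
      F.val.map (homOfLE h).op (secAddEquiv c W m) :=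
  congrArg ULift.down (c.map_res h m)

/-- projectivity of sections, on the small etale site and on the Zariski site. -/
theorem projective_iff (c : ZarCompanion T F M) (W : T.Opens) :
    Module.Projective ((OEtSchRing T).obj.obj (op (etaleOfOpen T W)))
        (M.val.obj (op (etaleOfOpen T W))) ↔
      Module.Projective (T.ringCatSheaf.obj.obj (op W)) (F.val.obj (op W)) := by
  have := RingHomInvPair.of_ringEquiv (ringEquiv T W)
  have := RingHomInvPair.of_ringEquiv_symm (ringEquiv T W)
  let τ : M.val.obj (op (etaleOfOpen T W)) ≃ₛₗ[(ringEquiv T W : (OEtSchRing T).obj.obj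
      (op (etaleOfOpen T W)) →+* T.ringCatSheaf.obj.obj (op W))] F.val.obj (op W) :=
    { secAddEquiv c W with
      map_smul' := fun a m => secAddEquiv_smul c W a m }
  exact ⟨fun h => Module.Projective.of_equiv τ, fun h => Module.Projective.of_equiv τ.symm⟩

end iso

section qcoh

open Groth.Agent.Ega1.QCohLoc

variable {S : Scheme.{u}} {V : Over S} {F : V.left.Modules} {M : ModEt ((yon S).obj V)}

/-- an open of the chart, as an object of the small etale site of the space of the chart. -/
noncomputable abbrev opn (V : Over S) (W : V.left.Opens) : EtOver ((yon S).obj V) :=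
  (EtOver.ofScheme V).obj (etaleOfOpen V.left W)

/-- an inclusion of opens. -/
noncomputable abbrev opnMap (V : Over S) {W W' : V.left.Opens} (h : W' ≤ W) : opn V W' ⟶ opn V W :=
  (EtOver.ofScheme V).map (etaleOfLE h)

/-- The companion of a quasi-coherent module has the base change property. -/
theorem isBC_res [M.IsQuasicoherent] (c : ZarCompanion V.left F ((resSchModEt V).obj M))
    {W W' : V.left.Opens} (h : W' ≤ W) (hW : IsAffineOpen W) (hW' : IsAffineOpen W') :
    IsBC (resO h : Γ(V.left, W) →+* Γ(V.left, W')) (res F h) := by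
  let φ : Γ((opn V W).obj.left.left, ⊤) →+* Γ((opn V W').obj.left.left, ⊤) :=
    (V.left.homOfLE h).appTop.hom
  let i₀ : Γ(V.left, W) →+* Γ((opn V W).obj.left.left, ⊤) := W.topIso.inv.hom
  let i₁ : Γ((opn V W').obj.left.left, ⊤) →+* Γ(V.left, W') := W'.topIso.hom.hom
  have hi₀ : Function.Bijective i₀ := ConcreteCategory.bijective_of_isIso W.topIso.inv
  have hi₁ : Function.Bijective i₁ := ConcreteCategory.bijective_of_isIso W'.topIso.hom
  have h1 : IsBC φ (M.val.presheaf.map (opnMap V h).op).hom :=
    isBC_of_isQuasicoherent M (opnMap V h) hW hW'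
  let s₀ : Γ(F, W) ≃+ M.val.presheaf.obj (op (opn V W)) := (secAddEquiv c W).symm
  let s₁ : M.val.presheaf.obj (op (opn V W')) ≃+ Γ(F, W') := secAddEquiv c W'
  have h0 : IsBC i₀ (s₀ : Γ(F, W) →+ M.val.presheaf.obj (op (opn V W))) := by
    refine K44.ProjPull.isBC_of_ringEquiv (φ := i₀) hi₀ s₀ fun a m => ?_
    refine (secAddEquiv c W).injective ?_
    refine ((secAddEquiv c W).apply_symm_apply _).trans ?_
    refine Eq.trans ?_ (secAddEquiv_smul c W ((ringEquiv V.left W).symm a) (s₀ m)).symm
    rw [RingEquiv.apply_symm_apply]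
    exact (congrArg (fun z => (a : V.left.ringCatSheaf.obj.obj (op W)) • z)
      ((secAddEquiv c W).apply_symm_apply m)).symm
  have h2 : IsBC i₁ (s₁ : M.val.presheaf.obj (op (opn V W')) →+ Γ(F, W')) :=
    K44.ProjPull.isBC_of_ringEquiv (φ := i₁) hi₁ s₁
      fun a m => secAddEquiv_smul c W' (ULift.up a) m
  have h3 := K644.Alg.IsBC.comp h0 (K644.Alg.IsBC.comp h1 h2)
  have h4 : (i₁.comp φ).comp i₀ = resO h := by
    have h5 : W.topIso.inv ≫ (V.left.homOfLE h).appTop ≫ W'.topIso.hom =
        V.left.presheaf.map (homOfLE h).op := by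
      rw [← Category.assoc, homOfLE_topIso_inv, Category.assoc, Iso.inv_hom_id, Category.comp_id]
    exact congrArg CommRingCat.Hom.hom h5
  have h6 : ((s₁ : M.val.presheaf.obj (op (opn V W')) →+ Γ(F, W')).comp
      (M.val.presheaf.map (opnMap V h).op).hom).comp
        (s₀ : Γ(F, W) →+ M.val.presheaf.obj (op (opn V W))) = res F h := by
    ext x
    refine (secAddEquiv_res c h (s₀ x)).trans ?_
    exact congrArg (F.val.map (homOfLE h).op) ((secAddEquiv c W).apply_symm_apply x)
  rw [h4, h6] at h3
  exact h3

/-- The companion of a quasi-coherent module is quasi-coherent. -/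
theorem isQCoh_of_companion [M.IsQuasicoherent]
    (c : ZarCompanion V.left F ((resSchModEt V).obj M)) : Coh.IsQCoh F := by
  refine isQCoh_of_isLocOnAffines F fun W hW f => ?_
  obtain ⟨h1, h2⟩ := isBC_res c (V.left.basicOpen_le f) hW (hW.basicOpen f)
  have h3 := hW.isLocalization_basicOpen f
  let _ : Algebra Γ(V.left, W) Γ(V.left, V.left.basicOpen f) :=
    (resO (V.left.basicOpen_le f)).toAlgebra
  let _ : Module Γ(V.left, W) Γ(F, V.left.basicOpen f) :=
    Module.compHom _ (resO (V.left.basicOpen_le f))
  have h4 : IsScalarTower Γ(V.left, W) Γ(V.left, V.left.basicOpen f)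
      Γ(F, V.left.basicOpen f) := ⟨fun a b m => by
    change (resO (V.left.basicOpen_le f) a * b) • m = resO (V.left.basicOpen_le f) a • b • m
    rw [mul_smul]⟩
  let l : Γ(F, W) →ₗ[Γ(V.left, W)] Γ(F, V.left.basicOpen f) :=
    { toFun := res F (V.left.basicOpen_le f)
      map_add' := map_add _
      map_smul' := h1 }
  have h5 : IsLocalizedModule (Submonoid.powers f) l :=
    (isLocalizedModule_iff_isBaseChange (Submonoid.powers f)
      Γ(V.left, V.left.basicOpen f) l).2 h2
  constructor
  · intro s
    obtain ⟨⟨t, ⟨_, n, rfl⟩⟩, h6⟩ := h5.surj s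
    refine ⟨n, t, ?_⟩
    refine h6.symm.trans ?_
    change resO (V.left.basicOpen_le f) (f ^ n) • s = _
    rw [map_pow]
  · intro t ht
    obtain ⟨⟨_, n, rfl⟩, h6⟩ := (IsLocalizedModule.eq_zero_iff (Submonoid.powers f) l).1 ht
    exact ⟨n, h6⟩

end qcoh

section small

variable {S : Scheme.{u}} {X : Sp S}

/-- A module has small sections if it has small sections over the affine objects. -/
theorem small_sec (M : ModEt X)
    (h : ∀ E : EtOver X, IsAffine E.obj.left.left → Small.{u} (M.val.obj (op E)))
    (E : EtOver X) : Small.{u} (M.val.obj (op E)) := by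
  have h1 : ∀ Z : E.obj.left.left.affineOpens,
      Small.{u} (M.val.obj (op (K612.Et.opn E Z.1))) := fun Z => h _ Z.2
  let ρ : M.val.obj (op E) → ∀ Z : E.obj.left.left.affineOpens,
      M.val.obj (op (K612.Et.opn E Z.1)) := fun s Z => M.val.map (K612.Et.opnMap E Z.1).op s
  refine small_of_injective (f := ρ) fun s t hst => ?_
  refine K644.Exact.ext_of_mem (M := M) (K612.Et.sieve_opn_mem E
    (fun Z : E.obj.left.left.affineOpens => Z.1)
    (iSup_affineOpens_eq_top E.obj.left.left)) s t ?_
  rintro V f ⟨_, a, b, ⟨Z⟩, rfl⟩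
  rw [K644.Exact.res_comp, K644.Exact.res_comp]
  exact congrArg (K644.Exact.res M a) (congrFun hst Z)

/-- The sections of the Zariski restriction of a module to an etale chart are small. -/
theorem small_res {V : Over S} {q : (yon S).obj V ⟶ X} (hrepq : Representable q)
    (he : IsEtaleMor q) [(SheafOfModules.pushforward.{u + 1} (bcRingHom hrepq)).IsRightAdjoint]
    (G : ModEt X) (h : ∀ E : EtOver X, IsAffine E.obj.left.left → Small.{u} (G.val.obj (op E)))
    (W : V.left.Opens) :
    Small.{u} (Companion.S ((resSchModEt V).obj ((pullModEt hrepq).obj G)) W) := by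
  let e₁ := secEquiv ((K612.ResEt.pullIsoRes hrepq he).app G)
    ((EtOver.ofScheme V).obj (etaleOfOpen V.left W))
  have h1 : Small.{u} (G.val.obj (op (openObj he W))) := small_sec G h _
  exact small_of_injective (β := G.val.obj (op (openObj he W))) e₁.injective

/-- If the sections over the affine objects are small, local projectivity can be tested on
companions. -/
theorem locProj_of_companions (hX : K612.PullQc.HasAtlas X) (G : ModEt X) [G.IsQuasicoherent]
    (hsmall : ∀ E : EtOver X, IsAffine E.obj.left.left → Small.{u} (G.val.obj (op E)))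
    (hproj : ∀ {V : Over S} (q : (yon S).obj V ⟶ X) (hrepq : Representable q)
      [(SheafOfModules.pushforward.{u + 1} (bcRingHom hrepq)).IsRightAdjoint]
      (H : V.left.Modules) [Coh.IsQCoh H]
      (_ : ZarCompanion V.left H ((resSchModEt V).obj ((pullModEt hrepq).obj G)))
      (W : V.left.Opens), RepWith @Etale q → IsAffineOpen W →
        Module.Projective (V.left.ringCatSheaf.obj.obj (op W)) (H.val.obj (op W))) :
    K44.ProjPull.LocProj G := by
  refine K44.ProjPull.locProj_of_charts G fun {V} q hrepq _ W hq hW => ?_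
  have h1 := small_res hrepq (isEtaleMor_of_repWith q hq) G hsmall
  have h2 := K612.PullQc.isQuasicoherent_pullModEt hrepq hX G
  let c := companion ((resSchModEt V).obj ((pullModEt hrepq).obj G))
  have h3 := isQCoh_of_companion c
  exact (projective_iff c W).2 (hproj q hrepq _ c W hq hW)

end small

end K44.Companion
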